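import Mathlib
import Groth.Agent.SchFinG.Points

/-!
# Finite étale algebras over a finite field are finite sets with a permutation
-/

set_option autoImplicit false
set_option linter.style.haveILetI false
set_option linter.unusedSectionVars false

universe u

open Polynomial
open scoped TensorProduct

noncomputable section

namespace Groth.Agent.FinFieldEt

variable (L : Type u) [Field L] [Fintype L] (Kb : Type u) [Field Kb] [IsAlgClosed Kb] [Algebra L Kb]

/-- the Frobenius of `L` on `Kb` -/
abbrev frob : Kb →ₐ[L] Kb := FiniteField.frobeniusAlgHom L Kb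

theorem frob_iterate (i : ℕ) (x : Kb) : (frob L Kb)^[i] x = x ^ (Fintype.card L ^ i) := by
  rw [FiniteField.coe_frobeniusAlgHom]
  exact congrFun (pow_iterate (Fintype.card L) i) x

theorem frob_injective : Function.Injective (frob L Kb) := (frob L Kb).toRingHom.injective

/-- the fixed field of the Frobenius is `L` -/
theorem mem_range_of_frob_eq {x : Kb} (hx : frob L Kb x = x) : x ∈ (algebraMap L Kb).range := by
  classical
  have hx' : x ^ Fintype.card L = x := hx
  let P : L[X] := X ^ Fintype.card L - X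
  have hP : P.roots.card = P.natDegree := by
    rw [FiniteField.roots_X_pow_card_sub_X, FiniteField.X_pow_card_sub_X_natDegree_eq _ Fintype.one_lt_card]
    rfl
  have h0 : P ≠ 0 := FiniteField.X_pow_card_sub_X_ne_zero _ Fintype.one_lt_card
  have hr := roots_map_of_injective_of_card_eq_natDegree (algebraMap L Kb).injective hP
  have hmem : x ∈ (P.map (algebraMap L Kb)).roots := by
    rw [mem_roots (map_ne_zero h0)]
    simp [P, hx']
  rw [← hr, Multiset.mem_map] at hmem
  obtain ⟨a, -, ha⟩ := hmem
  exact ⟨a, ha⟩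

variable {S : Type u} [Finite S] (τ : Equiv.Perm S)

/-- equivariant functions -/
def fixAlg : Subalgebra L (S → Kb) where
  carrier := {f | ∀ s, f (τ s) = frob L Kb (f s)}
  mul_mem' {f g} hf hg s := by simp only [Pi.mul_apply, hf s, hg s, map_mul]
  add_mem' {f g} hf hg s := by simp only [Pi.add_apply, hf s, hg s, map_add]
  algebraMap_mem' r s := by simp only [Pi.algebraMap_apply, AlgHom.commutes]

/-- evaluation -/
def ev (s : S) : fixAlg L Kb τ →ₐ[L] Kb := (Pi.evalAlgHom L (fun _ : S => Kb) s).comp (fixAlg L Kb τ).val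

theorem ev_apply (s : S) (f : fixAlg L Kb τ) : ev L Kb τ s f = f.1 s := rfl

theorem fix_iterate {f : S → Kb} (hf : f ∈ fixAlg L Kb τ) (i : ℕ) (s : S) :
    f (τ^[i] s) = (frob L Kb)^[i] (f s) := by
  induction i with
  | zero => rfl
  | succ n ih =>
    rw [Function.iterate_succ_apply', Function.iterate_succ_apply', hf, ih]

theorem finite_fixAlg : Finite (fixAlg L Kb τ) := by
  classical
  let N := orderOf τ
  have hN : 0 < N := orderOf_pos τ
  let P : Kb[X] := X ^ (Fintype.card L ^ N) - X
  have hP : P ≠ 0 := FiniteField.X_pow_card_sub_X_ne_zero _ (Nat.one_lt_pow hN.ne' Fintype.one_lt_card)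
  let R := {x : Kb // x ∈ P.roots.toFinset}
  haveI : Finite R := inferInstance
  refine Finite.of_injective (fun (f : fixAlg L Kb τ) (s : S) => (⟨f.1 s, ?_⟩ : R)) fun f g h => ?_
  · have hs : τ^[N] s = s := by
      rw [← Equiv.Perm.coe_pow, pow_orderOf_eq_one]; rfl
    have h1 := fix_iterate L Kb τ f.2 N s
    rw [hs, frob_iterate] at h1
    rw [Multiset.mem_toFinset, mem_roots hP]
    simp [P, ← h1]
  · exact Subtype.ext (funext fun s => congrArg Subtype.val (congrFun h s))

theorem finite_etale_fixAlg : Module.Finite L (fixAlg L Kb τ) ∧ Algebra.Etale L (fixAlg L Kb τ) := by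
  haveI := finite_fixAlg L Kb τ
  haveI : Module.Finite L (fixAlg L Kb τ) := Module.Finite.of_finite
  haveI : IsReduced (fixAlg L Kb τ) :=
    isReduced_of_injective (fixAlg L Kb τ).val Subtype.val_injective
  haveI : IsArtinianRing (fixAlg L Kb τ) := .of_finite L _
  refine ⟨inferInstance, (Algebra.Etale.iff_exists_algEquiv_prod _ _).mpr ?_⟩
  exact ⟨MaximalSpectrum (fixAlg L Kb τ), inferInstance, fun m => fixAlg L Kb τ ⧸ m.asIdeal,
    fun m => Ideal.Quotient.field m.asIdeal, fun m => inferInstance,
    (IsArtinianRing.equivPi _).restrictScalars L, fun m => by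
      letI := Ideal.Quotient.field m.asIdeal
      haveI : Finite (fixAlg L Kb τ ⧸ m.asIdeal) :=
        Finite.of_surjective _ Ideal.Quotient.mk_surjective
      exact ⟨inferInstance, inferInstance⟩⟩

theorem ev_injective : Function.Injective (ev L Kb τ) := by
  classical
  intro s t hst
  by_contra hne
  let g : S → S := τ
  let m := Function.minimalPeriod g s
  have hper : s ∈ Function.periodicPts g := by
    refine Function.mk_mem_periodicPts (orderOf_pos τ) ?_
    show τ^[orderOf τ] s = s
    rw [← Equiv.Perm.coe_pow, pow_orderOf_eq_one]; rfl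
  have hm : 0 < m := Function.minimalPeriod_pos_of_mem_periodicPts hper
  -- an element of exact period `m`
  let n := Fintype.card L ^ m - 1
  have hqm : 1 < Fintype.card L ^ m := Nat.one_lt_pow hm.ne' Fintype.one_lt_card
  haveI : NeZero ((n : ℕ) : Kb) := ⟨by
    rw [Nat.cast_sub hqm.le, Nat.cast_pow, Nat.cast_one]
    have h0 : ((Fintype.card L : ℕ) : Kb) = 0 := by
      have := congrArg (algebraMap L Kb) (Nat.cast_card_eq_zero L)
      rwa [map_natCast, map_zero] at this
    rw [h0, zero_pow hm.ne', zero_sub]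
    exact neg_ne_zero.mpr one_ne_zero⟩
  haveI : NeZero n := ⟨fun h => (NeZero.ne ((n : ℕ) : Kb)) (by rw [h, Nat.cast_zero])⟩
  obtain ⟨c, hc⟩ := HasEnoughRootsOfUnity.exists_primitiveRoot Kb n
  have hc0 : c ≠ 0 := hc.ne_zero (NeZero.ne n)
  have hcm : (frob L Kb)^[m] c = c := by
    rw [frob_iterate]
    calc c ^ Fintype.card L ^ m = c ^ (n + 1) := by rw [Nat.sub_add_cancel hqm.le]
      _ = c := by rw [pow_succ, hc.pow_eq_one, one_mul]
  have hci : ∀ i, i < m → 0 < i → (frob L Kb)^[i] c ≠ c := by
    intro i hi hpos h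
    rw [frob_iterate] at h
    have hqi : 1 < Fintype.card L ^ i := Nat.one_lt_pow hpos.ne' Fintype.one_lt_card
    have h1 : c ^ (Fintype.card L ^ i - 1) = 1 := by
      apply mul_right_cancel₀ hc0
      rw [one_mul, ← pow_succ, Nat.sub_add_cancel hqi.le, h]
    have h2 := Nat.le_of_dvd (Nat.sub_pos_of_lt hqi) (hc.dvd_of_pow_eq_one _ h1)
    have h3 : Fintype.card L ^ i < Fintype.card L ^ m := Nat.pow_lt_pow_right Fintype.one_lt_card hi
    omega
  -- the function
  have hwell : ∀ a b, g^[a] s = g^[b] s → (frob L Kb)^[a] c = (frob L Kb)^[b] c := by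
    intro a b hab
    have hcper : Function.IsPeriodicPt (frob L Kb) m c := hcm
    rw [← hcper.iterate_mod_apply a, ← hcper.iterate_mod_apply b]
    rw [← Function.iterate_mod_minimalPeriod_eq (n := a), ← Function.iterate_mod_minimalPeriod_eq (n := b)] at hab
    rw [(Function.iterate_eq_iterate_iff_of_lt_minimalPeriod (Nat.mod_lt _ hm) (Nat.mod_lt _ hm)).mp hab]
  let f : S → Kb := fun x => if h : ∃ j, g^[j] s = x then (frob L Kb)^[h.choose] c else 0
  have hfv : ∀ j, f (g^[j] s) = (frob L Kb)^[j] c := fun j => by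
    have h : ∃ j', g^[j'] s = g^[j] s := ⟨j, rfl⟩
    show (if h : ∃ j', g^[j'] s = g^[j] s then (frob L Kb)^[h.choose] c else 0) = _
    rw [dif_pos h]
    exact hwell _ _ h.choose_spec
  have hmem : f ∈ fixAlg L Kb τ := fun x => by
    by_cases h : ∃ j, g^[j] s = x
    · obtain ⟨j, rfl⟩ := h
      show f (g (g^[j] s)) = _
      rw [← Function.iterate_succ_apply' g, hfv, hfv, Function.iterate_succ_apply']
    · have h' : ¬ ∃ j, g^[j] s = τ x := by
        rintro ⟨j, hj⟩
        refine h ⟨j + (m - 1), τ.injective ?_⟩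
        show g (g^[j + (m - 1)] s) = g x
        rw [← Function.iterate_succ_apply' g, show (j + (m - 1)).succ = j + m by omega,
          Function.iterate_add_minimalPeriod_eq, hj]
      show (if h : ∃ j, g^[j] s = τ x then (frob L Kb)^[h.choose] c else 0) = frob L Kb (f x)
      rw [dif_neg h', show f x = 0 from dif_neg h, map_zero]
  have hst' : f s = f t := DFunLike.congr_fun hst ⟨f, hmem⟩
  rw [show f s = c from (hfv 0)] at hst'
  by_cases h : ∃ j, g^[j] s = t
  · obtain ⟨j, rfl⟩ := h
    rw [hfv, ← Function.IsPeriodicPt.iterate_mod_apply (show Function.IsPeriodicPt (frob L Kb) m c from hcm)] at hst'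
    rcases Nat.eq_zero_or_pos (j % m) with h0 | hp
    · refine hne ?_
      rw [← Function.iterate_mod_minimalPeriod_eq, show j % Function.minimalPeriod g s = 0 from h0]
      rfl
    · exact hci _ (Nat.mod_lt _ hm) hp hst'.symm
  · rw [show f t = 0 from dif_neg h] at hst'
    exact hc0 hst'

theorem ev_surjective : Function.Surjective (ev L Kb τ) := by
  classical
  intro χ
  haveI := finite_fixAlg L Kb τ
  haveI := Fintype.ofFinite S
  let n := Nat.card (fixAlg L Kb τ)
  let e : Fin n ≃ fixAlg L Kb τ := (Finite.equivFin _).symm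
  let F : Polynomial (fixAlg L Kb τ) := ∑ i : Fin n, C (e i) * X ^ (i : ℕ)
  let Ft : S → Kb[X] := fun t => F.map (ev L Kb τ t).toRingHom
  let P : Polynomial Kb[X] := ∏ t, (X - C (Ft t))
  have hFt : ∀ t, (Ft t).map (frob L Kb).toRingHom = Ft (τ t) := fun t => by
    rw [Polynomial.map_map]
    congr 1
    ext x
    exact (x.2 t).symm
  -- the product polynomial is defined over `L`
  have hP : P.map (mapRingHom (frob L Kb).toRingHom) = P := by
    simp only [P, Polynomial.map_prod, Polynomial.map_sub, map_X, map_C, coe_mapRingHom, hFt]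
    exact Equiv.prod_comp τ (fun t => X - C (Ft t))
  obtain ⟨Q, hQ⟩ : P ∈ (mapRingHom (mapRingHom (algebraMap L Kb))).range := by
    rw [Polynomial.mem_map_range]
    intro i
    rw [Polynomial.mem_map_range]
    intro j
    refine mem_range_of_frob_eq L Kb ?_
    have := congrArg (fun R => (R.coeff i).coeff j) hP
    rwa [coeff_map, coe_mapRingHom, coeff_map] at this
  have hcompat : ∀ (φ : fixAlg L Kb τ →ₐ[L] Kb) (Z : Polynomial L[X]),
      ((Z.map (mapRingHom (algebraMap L (fixAlg L Kb τ)))).eval F).map φ.toRingHom =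
        (Z.map (mapRingHom (algebraMap L Kb))).eval (F.map φ.toRingHom) := by
    intro φ Z
    rw [← coe_mapRingHom, eval_map, eval_map, hom_eval₂, mapRingHom_comp]
    congr 2
    exact φ.comp_algebraMap
  have h0 : ∀ t, ((Q.map (mapRingHom (algebraMap L (fixAlg L Kb τ)))).eval F).map (ev L Kb τ t).toRingHom = 0 := by
    intro t
    rw [hcompat, show Q.map (mapRingHom (algebraMap L Kb)) = P from hQ, eval_prod]
    exact Finset.prod_eq_zero (Finset.mem_univ t) (by simp [Ft])
  have h1 : (Q.map (mapRingHom (algebraMap L (fixAlg L Kb τ)))).eval F = 0 := by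
    ext j s
    have := congrArg (fun R => R.coeff j) (h0 s)
    simpa [coeff_map, ev_apply] using this
  have h2 := hcompat χ Q
  rw [h1, Polynomial.map_zero, show Q.map (mapRingHom (algebraMap L Kb)) = P from hQ, eval_prod] at h2
  obtain ⟨t, -, ht⟩ := Finset.prod_eq_zero_iff.mp h2.symm
  rw [eval_sub, eval_X, eval_C, sub_eq_zero] at ht
  refine ⟨t, AlgHom.ext fun x => ?_⟩
  have hx : F.coeff (e.symm x : ℕ) = x := by
    simp [F, coeff_X_pow, Fin.val_inj]
  have := congrArg (fun R => R.coeff (e.symm x : ℕ)) ht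
  simp only [Ft, coeff_map, hx] at this
  exact this.symm

theorem natCard_points : Nat.card (fixAlg L Kb τ →ₐ[L] Kb) = Nat.card S :=
  (Nat.card_congr (Equiv.ofBijective _ ⟨ev_injective L Kb τ, ev_surjective L Kb τ⟩)).symm

section Algebra

variable (A : Type u) [CommRing A] [Algebra L A] [Module.Finite L A] [Algebra.Etale L A]

theorem finite_points : Finite (A →ₐ[L] Kb) := by
  obtain ⟨n, e, κ, -⟩ := SchFinG.exists_split_points (R := L) (Ω := Kb) (A := A)
  exact Finite.of_equiv _ κ

theorem eq_of_points {x y : A} (h : ∀ χ : A →ₐ[L] Kb, χ x = χ y) : x = y := by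
  have := (SchFinG.bijective_evFun (R := L) (Ω := Kb) (A := A)).1 (a₁ := (1 : Kb) ⊗ₜ[L] x)
    (a₂ := (1 : Kb) ⊗ₜ[L] y) (funext fun χ => by simp [SchFinG.evFun, h χ])
  exact Algebra.TensorProduct.includeRight_injective (algebraMap L Kb).injective this

theorem finrank_eq_natCard : Module.finrank L A = Nat.card (A →ₐ[L] Kb) := by
  have hP : (⟨⊥, Ideal.isPrime_bot⟩ : PrimeSpectrum L).asIdeal = RingHom.ker (algebraMap L Kb) :=
    ((RingHom.injective_iff_ker_eq_bot _).mp (algebraMap L Kb).injective).symm
  rw [SchFinG.natCard_algHom (R := L) (Ω := Kb) (A := A) _ hP, Module.rankAtStalk_eq_finrank_of_free]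
  rfl

/-- Frobenius on points -/
def frobPerm : Equiv.Perm (A →ₐ[L] Kb) :=
  haveI := finite_points L Kb A
  Equiv.ofBijective (fun χ => (frob L Kb).comp χ) (Finite.injective_iff_bijective.mp fun χ χ' h =>
    AlgHom.ext fun x => frob_injective L Kb (DFunLike.congr_fun h x))

theorem frobPerm_apply (χ : A →ₐ[L] Kb) : frobPerm L Kb A χ = (frob L Kb).comp χ := rfl

end Algebra

theorem existsUnique_algHom (A B : Type u) [CommRing A] [Algebra L A]
    [Module.Finite L A] [Algebra.Etale L A] [CommRing B] [Algebra L B]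
    [Module.Finite L B] [Algebra.Etale L B] (u : (B →ₐ[L] Kb) → (A →ₐ[L] Kb))
    (hu : ∀ χ, u ((frob L Kb).comp χ) = (frob L Kb).comp (u χ)) :
    ∃! φ : A →ₐ[L] B, ∀ χ, χ.comp φ = u χ := by
  haveI := finite_points L Kb B
  let T := frobPerm L Kb B
  obtain ⟨hfin, het⟩ := finite_etale_fixAlg L Kb T
  haveI := hfin
  haveI := het
  let ι : B →ₐ[L] fixAlg L Kb T :=
    (AlgHom.codRestrict (AlgHom.pi fun χ => χ) (fixAlg L Kb T) fun b χ => rfl)
  have hι : Function.Injective ι := fun x y h =>
    eq_of_points L Kb B fun χ => congrFun (congrArg Subtype.val h) χ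
  have hιb : Function.Bijective ι := by
    refine ⟨hι, ((LinearMap.injective_iff_surjective_of_finrank_eq_finrank ?_).mp (show Function.Injective ι.toLinearMap from hι))⟩
    rw [finrank_eq_natCard L Kb B, finrank_eq_natCard L Kb (fixAlg L Kb T), natCard_points]
  let ψ : A →ₐ[L] fixAlg L Kb T :=
    AlgHom.codRestrict (AlgHom.pi fun χ => u χ) (fixAlg L Kb T) fun a χ => by
      show u (T χ) a = frob L Kb (u χ a)
      rw [show T χ = (frob L Kb).comp χ from rfl, hu]; rfl
  let eB := AlgEquiv.ofBijective ι hιb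
  refine ⟨eB.symm.toAlgHom.comp ψ, fun χ => AlgHom.ext fun a => ?_, fun φ hφ => AlgHom.ext fun a => ?_⟩
  · have : ι (eB.symm (ψ a)) = ψ a := eB.apply_symm_apply _
    exact congrFun (congrArg Subtype.val this) χ
  · apply hι
    refine Eq.trans ?_ (eB.apply_symm_apply _).symm
    exact Subtype.ext (funext fun χ => DFunLike.congr_fun (hφ χ) a)

end Groth.Agent.FinFieldEt
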