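import Groth.Agent.FinFieldEt.Conv
import Groth.Agent.QuotShLib.Fppf
import Groth.Prelude.Def_StkCnt

/-!
# Torsors of the classifying stack over a finite field
-/

set_option autoImplicit false
set_option backward.isDefEq.respectTransparency false
set_option backward.isDefEq.respectTransparency.types false
set_option linter.style.haveILetI false
set_option linter.unusedSectionVars false

universe u

open CategoryTheory CategoryTheory.Limits MonoidalCategory CartesianMonoidalCategory MonObj GrpObj AlgebraicGeometry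
open Groth.Agent

noncomputable section

namespace Groth.Agent.FinFieldEt.BG

variable {S₀ : Scheme.{u}} {K : Precoverage Scheme.{u}} {G : Over S₀} [GrpObj G]

theorem cart_congr {B B' W P : Over S₀} (h : B = B') {a c : W ⟶ P} {π : P ⟶ B} (hc : IsPullback a c π π) :
    IsPullback a c (π ≫ eqToHom h) (π ≫ eqToHom h) := by
  subst h; simpa using hc

theorem loc_congr {B B' P : Over S₀} (h : B = B') {π : P ⟶ B}
    (hl : NonAbH1.IsLocallyTrivialFor K (Over.mk π.left : Over B.left)) :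
    NonAbH1.IsLocallyTrivialFor K (Over.mk (π ≫ eqToHom h).left : Over B'.left) := by
  subst h; rw [eqToHom_refl, Category.comp_id]; exact hl

variable {L : Type u} [Field L] [Fintype L] {b : Spec (CommRingCat.of L) ⟶ S₀}

/-- objects of the classifying stack over the base -/
abbrev Fib (K : Precoverage Scheme.{u}) (b : Spec (CommRingCat.of L) ⟶ S₀) (G : Over S₀) [GrpObj G] :
    Type (u + 1) :=
  (AlgSt.BG K G).p.Fiber (bT b)

variable [IsFinite G.hom] [Etale G.hom] (hK : K ≤ Scheme.fpqcPrecoverage)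

/-- the torsor of an object -/
def toTor (ξ : Fib K b G) : Tor b G :=
  torOfLoc hK ξ.1.act (ξ.1.π ≫ eqToHom ξ.2) (cart_congr ξ.2 ξ.1.cart) (loc_congr ξ.2 ξ.1.loc)

theorem base_eq {ξ ζ : Fib K b G} (f : ξ ⟶ ζ) : f.1.base = eqToHom (ξ.2.trans ζ.2.symm) := by
  have h := @IsHomLift.fac' _ _ _ _ (AlgSt.BG K G).p _ _ _ _ (𝟙 (bT b)) f.1 f.2
  rw [show f.1.base = (AlgSt.BG K G).p.map f.1 from rfl, h]
  simp

theorem top_π {ξ ζ : Fib K b G} (f : ξ ⟶ ζ) : f.1.top ≫ ζ.1.π ≫ eqToHom ζ.2 = ξ.1.π ≫ eqToHom ξ.2 := by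
  rw [← Category.assoc, f.1.cart.w, base_eq, Category.assoc]
  exact congrArg (ξ.1.π ≫ ·) (eqToHom_trans _ _)

/-- the morphism of an equivariant map over the base -/
def homOf {ξ ζ : Fib K b G} (t : ξ.1.P ≅ ζ.1.P) (he : ξ.1.act.act ≫ t.hom = (G ◁ t.hom) ≫ ζ.1.act.act)
    (hπ : t.hom ≫ ζ.1.π ≫ eqToHom ζ.2 = ξ.1.π ≫ eqToHom ξ.2) : ξ ⟶ ζ :=
  ⟨⟨eqToHom (ξ.2.trans ζ.2.symm), t.hom, he, IsPullback.of_horiz_isIso ⟨by
      have h := congrArg (· ≫ eqToHom ζ.2.symm) hπ
      simp only [Category.assoc, eqToHom_trans, eqToHom_refl, Category.comp_id] at h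
      exact h⟩,
    toUnit_unique _ _⟩, IsHomLift.of_fac' _ _ _ ξ.2 ζ.2 (by
      exact ((congrArg (eqToHom ξ.2 ≫ ·) (Category.id_comp _)).trans (eqToHom_trans _ _)).symm)⟩

/-- the isomorphism of an isomorphism of torsors -/
def isoOf {ξ ζ : Fib K b G} (e : EIso (toTor hK ξ) (toTor hK ζ)) : ξ ≅ ζ :=
  ⟨homOf (ξ := ξ) (ζ := ζ) e.1 e.2.1 e.2.2, homOf (ξ := ζ) (ζ := ξ) e.1.symm (by
      show ζ.1.act.act ≫ e.1.inv = (G ◁ e.1.inv) ≫ ξ.1.act.act
      rw [Iso.comp_inv_eq, Category.assoc]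
      erw [e.2.1]
      rw [← MonoidalCategory.whiskerLeft_comp_assoc, Iso.inv_hom_id, MonoidalCategory.whiskerLeft_id]
      exact (Category.id_comp _).symm) (by
      show e.1.inv ≫ _ = _
      rw [Iso.inv_comp_eq]
      exact e.2.2.symm),
    Subtype.ext (AlgSt.QuotObj.hom_ext (eqToHom_trans (ξ.2.trans ζ.2.symm) (ζ.2.trans ξ.2.symm)) e.1.hom_inv_id),
    Subtype.ext (AlgSt.QuotObj.hom_ext (eqToHom_trans (ζ.2.trans ξ.2.symm) (ξ.2.trans ζ.2.symm)) e.1.inv_hom_id)⟩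

/-- isomorphisms in the fibre are isomorphisms of torsors -/
def equivEIso (ξ ζ : Fib K b G) : (ξ ≅ ζ) ≃ EIso (toTor hK ξ) (toTor hK ζ) where
  toFun e := ⟨⟨e.hom.1.top, e.inv.1.top, congrArg (fun f => f.1.top) e.hom_inv_id,
      congrArg (fun f => f.1.top) e.inv_hom_id⟩, e.hom.1.eqv, top_π e.hom⟩
  invFun e := isoOf hK e
  left_inv e := Iso.ext (Subtype.ext (AlgSt.QuotObj.hom_ext (base_eq e.hom).symm rfl))
  right_inv _ := rfl

theorem toTor_surjective (hmem : ∀ A : Tor b G, Presieve.singleton A.π.left ∈ K (Spec (CommRingCat.of L)))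
    (A : Tor b G) : ∃ ξ : Fib K b G, Nonempty (EIso (toTor hK ξ) A) := by
  refine ⟨⟨⟨bT b, A.P, A.act, A.π, A.cart, isLocallyTrivialFor_singleton A (hmem A), toUnit _,
    toUnit_unique _ _⟩, rfl⟩, ⟨⟨Iso.refl A.P, ?_, ?_⟩⟩⟩
  · show A.act.act ≫ 𝟙 _ = (G ◁ 𝟙 _) ≫ A.act.act
    simp
  · show 𝟙 _ ≫ A.π = A.π ≫ 𝟙 _
    simp

include hK in
/-- the count of the classifying stack over a finite field -/
theorem count_eq_one (hmem : ∀ A : Tor b G, Presieve.singleton A.π.left ∈ K (Spec (CommRingCat.of L)))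
    (h : StkCnt.IsEssFinite (Fib K b G)) : StkCnt.count (Fib K b G) h = 1 := by
  classical
  obtain ⟨hfin, hsum⟩ := mass b G (StkCnt.IsoCl.mk : Fib K b G → StkCnt.IsoCl (Fib K b G)) (toTor hK)
    Quotient.mk_surjective
    (fun ξ ζ => Quotient.eq.trans (equivEIso hK ξ ζ).nonempty_congr)
    (toTor_surjective hK hmem) Quotient.out Quotient.out_eq
  haveI : Fintype (StkCnt.IsoCl (Fib K b G)) := Fintype.ofFinite _
  rw [StkCnt.count_eq_sum, ← hsum, finsum_eq_sum_of_fintype]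
  refine Finset.sum_congr rfl fun c _ => ?_
  conv_lhs => rw [← Quotient.out_eq c]
  exact congrArg (fun n : ℕ => (n : ℚ)⁻¹) (Nat.card_congr (equivEIso hK c.out c.out))

end Groth.Agent.FinFieldEt.BG
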