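import Groth.Agent.FinFieldEt.Mass
import Groth.Agent.FpqcDescent.Props
import Groth.Prelude.Def_NonAbH2

/-!
# Locally trivial torsors over a finite field are finite étale
-/

set_option autoImplicit false
set_option backward.isDefEq.respectTransparency false
set_option backward.isDefEq.respectTransparency.types false
set_option linter.style.haveILetI false
set_option linter.unusedSectionVars false

universe u

open CategoryTheory CategoryTheory.Limits MonoidalCategory CartesianMonoidalCategory MonObj GrpObj AlgebraicGeometry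
open Groth.Agent

noncomputable section

namespace Groth.Agent.FinFieldEt

variable {S₀ : Scheme.{u}} {L : Type u} [Field L] {b : Spec (CommRingCat.of L) ⟶ S₀}
variable {G : Over S₀} [GrpObj G]

theorem snd_pullback_of_section (Q : MorphismProperty Scheme.{u}) [Q.RespectsIso] [Q.IsStableUnderBaseChange]
    (hG : Q G.hom) {P : Over S₀} (act : AlgGrp.Action G P) (π : P ⟶ bT b)
    (cart : IsPullback act.act (snd G P) π π) {S' : Scheme.{u}} (s : S' ⟶ P.left) :
    Q (pullback.snd π.left (s ≫ π.left)) := by
  have hsnd : Q (snd G P).left := by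
    rw [Over.snd_left]; exact MorphismProperty.pullback_snd _ _ hG
  have h' : IsPullback (pullback.fst (snd G P).left s ≫ act.act.left) (pullback.snd (snd G P).left s)
      π.left (s ≫ π.left) :=
    (IsPullback.of_hasPullback (snd G P).left s).flip.paste_vert (cart.map (Over.forget S₀)).flip |>.flip
  rw [← h'.isoPullback_inv_snd, Q.cancel_left_of_respectsIso]
  exact MorphismProperty.pullback_snd _ _ hsnd

theorem of_loc [IsFinite G.hom] [Etale G.hom] {K : Precoverage Scheme.{u}} (hK : K ≤ Scheme.fpqcPrecoverage)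
    {P : Over S₀} (act : AlgGrp.Action G P) (π : P ⟶ bT b) (cart : IsPullback act.act (snd G P) π π)
    (loc : NonAbH1.IsLocallyTrivialFor K (Over.mk π.left : Over (Spec (CommRingCat.of L)))) :
    IsFinite π.left ∧ Etale π.left ∧ Surjective π.left := by
  obtain ⟨R, hR, hsec⟩ := loc
  refine ⟨FpqcDescent.of_fpqcPrecoverage @IsFinite π.left (hK _ hR) fun S' f hf => ?_,
    FpqcDescent.of_fpqcPrecoverage @Etale π.left (hK _ hR) fun S' f hf => ?_,
    FpqcDescent.of_fpqcPrecoverage @Surjective π.left (hK _ hR) fun S' f hf => ?_⟩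
  · obtain ⟨s, hs⟩ := hsec f hf
    rw [← hs]; exact snd_pullback_of_section @IsFinite ‹_› act π cart s
  · obtain ⟨s, hs⟩ := hsec f hf
    rw [← hs]; exact snd_pullback_of_section @Etale ‹_› act π cart s
  · obtain ⟨s, hs⟩ := hsec f hf
    exact ⟨fun y => ⟨(pullback.lift s (𝟙 S') (by rw [Category.id_comp]; exact hs) :
      S' ⟶ pullback π.left f) y, by
      rw [← Scheme.Hom.comp_apply, pullback.lift_snd]; rfl⟩⟩

/-- a torsor from a locally trivial cartesian action -/
def torOfLoc [IsFinite G.hom] [Etale G.hom] {K : Precoverage Scheme.{u}} (hK : K ≤ Scheme.fpqcPrecoverage)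
    {P : Over S₀} (act : AlgGrp.Action G P) (π : P ⟶ bT b) (cart : IsPullback act.act (snd G P) π π)
    (loc : NonAbH1.IsLocallyTrivialFor K (Over.mk π.left : Over (Spec (CommRingCat.of L)))) : Tor b G :=
  ⟨P, act, π, cart, (of_loc hK act π cart loc).1, (of_loc hK act π cart loc).2.1, (of_loc hK act π cart loc).2.2⟩

theorem isLocallyTrivialFor_singleton {K : Precoverage Scheme.{u}} (A : Tor b G)
    (hmem : Presieve.singleton A.π.left ∈ K (Spec (CommRingCat.of L))) :
    NonAbH1.IsLocallyTrivialFor K (Over.mk A.π.left : Over (Spec (CommRingCat.of L))) := by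
  refine ⟨_, hmem, ?_⟩
  rintro S' f ⟨⟩
  exact ⟨𝟙 _, Category.id_comp _⟩

theorem singleton_mem_fppf (A : Tor b G) :
    Presieve.singleton A.π.left ∈ Scheme.fppfPrecoverage (Spec (CommRingCat.of L)) :=
  A.π.left.singleton_mem_fppfPrecoverage

theorem singleton_mem_etale (A : Tor b G) :
    Presieve.singleton A.π.left ∈ Scheme.etalePrecoverage (Spec (CommRingCat.of L)) :=
  (Scheme.singleton_mem_precoverage_iff @Etale A.π.left).mpr ⟨fun y => A.π.left.surjective y, A.et⟩

end Groth.Agent.FinFieldEt
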