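import Groth.Agent.FinFieldEt.Tor
import Mathlib.GroupTheory.GroupAction.Quotient

/-!
# Realisation of twisted classes and the mass formula
-/

set_option autoImplicit false
set_option backward.isDefEq.respectTransparency false
set_option backward.isDefEq.respectTransparency.types false
set_option linter.style.haveILetI false
set_option linter.unusedSectionVars false

universe u w w'

open CategoryTheory CategoryTheory.Limits MonoidalCategory CartesianMonoidalCategory MonObj GrpObj AlgebraicGeometry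
open Groth.Agent

noncomputable section

namespace Groth.Agent.FinFieldEt

variable {S₀ : Scheme.{u}} {L : Type u} [Field L] [Fintype L] (b : Spec (CommRingCat.of L) ⟶ S₀)
variable (Kb : Type u) [Field Kb] [IsAlgClosed Kb] [Algebra L Kb]
variable (G : Over S₀) [GrpObj G] [IsFinite G.hom] [Etale G.hom]

theorem exists_tor (g₀ : GamG b Kb G) : ∃ (A : Tor b G) (x : PPts b Kb A.π), gel Kb A x = g₀ := by
  classical
  haveI := finite_gam b Kb G
  let τ : Equiv.Perm (GamG b Kb G) := Equiv.ofBijective (fun h => σG b Kb G h * g₀)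
    (Finite.injective_iff_bijective.mp fun h h' e => σG_injective b Kb G (mul_right_cancel e))
  obtain ⟨Z, z, hfin, het, e₀, he₀⟩ := exists_scheme (L := L) (Kb := Kb) _ τ
  let P : Over S₀ := Over.mk (z ≫ b)
  let π : P ⟶ bT b := Over.homMk z
  haveI : IsFinite π.left := hfin
  haveI : Etale π.left := het
  let e : GamG b Kb G ≃ PPts b Kb π := e₀.trans (pptsEquiv b Kb π).symm
  have he : ∀ s, pfrob b Kb (e s) = e (σG b Kb G s * g₀) := fun s => by
    apply (pptsEquiv b Kb π).injective
    rw [pptsEquiv_pfrob]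
    simp only [e, Equiv.trans_apply]
    exact (he₀ s).symm
  -- finite étale sources
  haveI : IsFinite (snd G P ≫ π).left := by rw [Over.comp_left, Over.snd_left]; infer_instance
  haveI : Etale (snd G P ≫ π).left := by rw [Over.comp_left, Over.snd_left]; infer_instance
  let v : PPts b Kb (snd G P ≫ π) → PPts b Kb π := fun w =>
    e ((w.1 ≫ fst G P) * e.symm ⟨w.1 ≫ snd G P, by rw [Category.assoc]; exact w.2⟩)
  have hv : ∀ w, v (pfrob b Kb w) = pfrob b Kb (v w) := fun w => by
    have h1 : (pfrob b Kb w).1 ≫ fst G P = σG b Kb G (w.1 ≫ fst G P) := Category.assoc _ _ _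
    let x' : PPts b Kb π := ⟨w.1 ≫ snd G P, by rw [Category.assoc]; exact w.2⟩
    have h2 : e.symm ⟨(pfrob b Kb w).1 ≫ snd G P, by rw [Category.assoc]; exact (pfrob b Kb w).2⟩ =
        σG b Kb G (e.symm x') * g₀ := by
      rw [Equiv.symm_apply_eq, ← he, Equiv.apply_symm_apply]
      exact Subtype.ext (Category.assoc _ _ _)
    show e (_ * _) = pfrob b Kb (e (_ * _))
    rw [he, h1, h2, map_mul (σG b Kb G), _root_.mul_assoc]
  obtain ⟨m, hmπ, hm⟩ := exists_hom b Kb (snd G P ≫ π) π v hv
  have hkey : ∀ (g : GamG b Kb G) (s : GamG b Kb G), lift g (e s).1 ≫ m = (e (g * s)).1 := fun g s => by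
    have hw : lift g (e s).1 ≫ snd G P ≫ π = gι b Kb := by rw [lift_snd_assoc]; exact (e s).2
    rw [hm ⟨_, hw⟩]
    show (e ((lift g (e s).1 ≫ fst G P) * e.symm ⟨lift g (e s).1 ≫ snd G P, _⟩)).1 = _
    congr 3
    · exact lift_fst _ _
    · rw [Equiv.symm_apply_eq]; exact Subtype.ext (lift_snd _ _)
  have hdec : ∀ (w : gp b Kb ⟶ P) (hw : w ≫ π = gι b Kb), ∃ s, w = (e s).1 := fun w hw =>
    ⟨e.symm ⟨w, hw⟩, by rw [Equiv.apply_symm_apply]⟩
  let act : AlgGrp.Action G P :=
    { act := m
      one_act := by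
        haveI : IsFinite (𝟙_ (Over S₀)).hom := by rw [Over.tensorUnit_hom]; exact MorphismProperty.id_mem @IsFinite _
        haveI : Etale (𝟙_ (Over S₀)).hom := by rw [Over.tensorUnit_hom]; exact MorphismProperty.id_mem @Etale _
        haveI : IsFinite (snd (𝟙_ (Over S₀)) P ≫ π).left := by rw [Over.comp_left, Over.snd_left]; infer_instance
        haveI : Etale (snd (𝟙_ (Over S₀)) P ≫ π).left := by rw [Over.comp_left, Over.snd_left]; infer_instance
        refine pts_ext b Kb (snd (𝟙_ (Over S₀)) P ≫ π) π _ _ ?_ ?_ fun w => ?_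
        · rw [Category.assoc, hmπ, whiskerRight_snd_assoc]
        · rw [leftUnitor_hom]
        · obtain ⟨u₀, x', hw⟩ : ∃ u₀ x', w.1 = lift u₀ x' := ⟨w.1 ≫ fst _ P, w.1 ≫ snd _ P,
            CartesianMonoidalCategory.hom_ext _ _ (by rw [lift_fst]) (by rw [lift_snd])⟩
          have hx' : x' ≫ π = gι b Kb := by
            rw [← lift_snd u₀ x', ← hw, Category.assoc]; exact w.2
          obtain ⟨s, rfl⟩ := hdec x' hx'
          rw [hw, lift_whiskerRight_assoc, lift_leftUnitor_hom, toUnit_unique u₀ (toUnit _), ← Hom.one_def, hkey,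
            _root_.one_mul]
      mul_act := by
        haveI : IsFinite (G ⊗ G).hom := by rw [Over.tensorObj_hom]; infer_instance
        haveI : Etale (G ⊗ G).hom := by rw [Over.tensorObj_hom]; infer_instance
        haveI : IsFinite (snd (G ⊗ G) P ≫ π).left := by rw [Over.comp_left, Over.snd_left]; infer_instance
        haveI : Etale (snd (G ⊗ G) P ≫ π).left := by rw [Over.comp_left, Over.snd_left]; infer_instance
        refine pts_ext b Kb (snd (G ⊗ G) P ≫ π) π _ _ ?_ ?_ fun w => ?_
        · rw [Category.assoc, hmπ, whiskerRight_snd_assoc]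
        · rw [Category.assoc, Category.assoc, hmπ, whiskerLeft_snd_assoc, hmπ, associator_hom_snd_snd_assoc]
        · obtain ⟨g, h, x', hw⟩ : ∃ g h x', w.1 = lift (lift g h) x' :=
            ⟨w.1 ≫ fst _ P ≫ fst G G, w.1 ≫ fst _ P ≫ snd G G, w.1 ≫ snd _ P,
            CartesianMonoidalCategory.hom_ext _ _ (by
              rw [lift_fst]
              exact CartesianMonoidalCategory.hom_ext _ _ (by rw [lift_fst, Category.assoc]) (by rw [lift_snd, Category.assoc]))
              (by rw [lift_snd])⟩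
          have hx' : x' ≫ π = gι b Kb := by
            rw [← lift_snd (lift g h) x', ← hw, Category.assoc]; exact w.2
          obtain ⟨s, rfl⟩ := hdec x' hx'
          rw [hw, lift_whiskerRight_assoc, ← Hom.mul_def, lift_lift_associator_hom_assoc,
            lift_whiskerLeft_assoc, hkey, hkey, hkey, _root_.mul_assoc] }
  have hcart : IsPullback m (snd G P) π π := by
    let Q := pullback π π
    let p₁ : Q ⟶ P := pullback.fst π π
    let p₂ : Q ⟶ P := pullback.snd π π
    have hsq := (IsPullback.of_hasPullback π π).map (Over.forget S₀)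
    haveI : IsFinite (p₂ ≫ π).left := by
      have : IsFinite p₂.left := MorphismProperty.of_isPullback (P := @IsFinite) hsq hfin
      rw [Over.comp_left]; infer_instance
    haveI : Etale (p₂ ≫ π).left := by
      have : Etale p₂.left := MorphismProperty.of_isPullback (P := @Etale) hsq het
      rw [Over.comp_left]; infer_instance
    let c : G ⊗ P ⟶ Q := pullback.lift m (snd G P) hmπ
    let pick : PPts b Kb (p₂ ≫ π) → GamG b Kb G × GamG b Kb G := fun w =>
      (e.symm ⟨w.1 ≫ p₁, by rw [Category.assoc, pullback.condition]; exact w.2⟩,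
        e.symm ⟨w.1 ≫ p₂, by rw [Category.assoc]; exact w.2⟩)
    let v' : PPts b Kb (p₂ ≫ π) → PPts b Kb (snd G P ≫ π) := fun w =>
      ⟨lift ((pick w).1 * (pick w).2⁻¹) (e (pick w).2).1, by rw [lift_snd_assoc]; exact (e _).2⟩
    have hpick : ∀ w, pick (pfrob b Kb w) = (σG b Kb G (pick w).1 * g₀, σG b Kb G (pick w).2 * g₀) := fun w => by
      refine Prod.ext ?_ ?_ <;>
      · show e.symm _ = _
        rw [Equiv.symm_apply_eq, ← he, Equiv.apply_symm_apply]
        exact Subtype.ext (Category.assoc _ _ _)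
    have hv' : ∀ w, v' (pfrob b Kb w) = pfrob b Kb (v' w) := fun w => by
      refine Subtype.ext ?_
      show lift ((pick (pfrob b Kb w)).1 * (pick (pfrob b Kb w)).2⁻¹) (e (pick (pfrob b Kb w)).2).1 =
        gφ b Kb ≫ lift ((pick w).1 * (pick w).2⁻¹) (e (pick w).2).1
      rw [hpick, comp_lift, ← he]
      congr 1
      show (σG b Kb G (pick w).1 * g₀) * (σG b Kb G (pick w).2 * g₀)⁻¹ = σG b Kb G ((pick w).1 * (pick w).2⁻¹)
      rw [map_mul, map_inv]
      group
    obtain ⟨d, hdπ, hd⟩ := exists_hom b Kb (p₂ ≫ π) (snd G P ≫ π) v' hv'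
    have hcπ : c ≫ p₂ ≫ π = snd G P ≫ π := by rw [← Category.assoc, pullback.lift_snd]
    have hcd : c ≫ d = 𝟙 _ := by
      refine pts_ext b Kb (snd G P ≫ π) (snd G P ≫ π) _ _ (by rw [Category.assoc, hdπ, hcπ]) (Category.id_comp _) fun w => ?_
      obtain ⟨g, x', hw⟩ : ∃ g x', w.1 = lift g x' := ⟨w.1 ≫ fst G P, w.1 ≫ snd G P,
        CartesianMonoidalCategory.hom_ext _ _ (by rw [lift_fst]) (by rw [lift_snd])⟩
      have hx' : x' ≫ π = gι b Kb := by
        rw [← lift_snd g x', ← hw, Category.assoc]; exact w.2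
      obtain ⟨s, rfl⟩ := hdec x' hx'
      let wc : PPts b Kb (p₂ ≫ π) := ⟨w.1 ≫ c, by rw [Category.assoc, hcπ]; exact w.2⟩
      have hp : pick wc = (g * s, s) := by
        refine Prod.ext ?_ ?_ <;>
        · show e.symm _ = _
          rw [Equiv.symm_apply_eq]
          refine Subtype.ext ?_
          show (w.1 ≫ c) ≫ _ = _
          rw [Category.assoc]
          first
            | rw [pullback.lift_fst, hw, hkey]
            | rw [pullback.lift_snd, hw, lift_snd]
      rw [← Category.assoc, hd wc, Category.comp_id]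
      show lift ((pick wc).1 * (pick wc).2⁻¹) (e (pick wc).2).1 = w.1
      rw [hp, hw, mul_inv_cancel_right]
    have hdc : d ≫ c = 𝟙 _ := by
      refine pts_ext b Kb (p₂ ≫ π) (p₂ ≫ π) _ _ (by rw [Category.assoc, hcπ, hdπ]) (Category.id_comp _) fun w => ?_
      rw [← Category.assoc, hd w, Category.comp_id]
      show lift _ _ ≫ c = w.1
      apply pullback.hom_ext <;> rw [Category.assoc]
      · rw [pullback.lift_fst, hkey, inv_mul_cancel_right, Equiv.apply_symm_apply]
      · rw [pullback.lift_snd, lift_snd, Equiv.apply_symm_apply]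
    haveI : IsIso c := ⟨d, hcd, hdc⟩
    exact IsPullback.of_iso_pullback ⟨hmπ⟩ (asIso c) (pullback.lift_fst _ _ _) (pullback.lift_snd _ _ _)
  have hsurj : Surjective π.left := by
    refine ⟨fun p => ⟨(e 1).1.left (IsLocalRing.closedPoint Kb), ?_⟩⟩
    haveI : Subsingleton (PrimeSpectrum L) := inferInstance
    exact Subsingleton.elim (α := PrimeSpectrum L) _ _
  let A : Tor b G := ⟨P, act, π, hcart, hfin, het, hsurj⟩
  refine ⟨A, e 1, (trp_bijective Kb A (e 1)).1 ?_⟩
  show trp Kb A _ _ = trp Kb A g₀ _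
  rw [trp_gel]
  refine Subtype.ext ?_
  show (pfrob b Kb (e 1)).1 = lift g₀ (e 1).1 ≫ m
  rw [he, map_one, _root_.one_mul, hkey, _root_.mul_one]

/-- A copy of a type, to carry the twisted conjugation action. -/
def TwSet (α : Type u) : Type u := α

/-- The mass formula for any parametrisation of the isomorphism classes of torsors. -/
theorem mass {Obj : Type w} {Q : Type w'} (cl : Obj → Q) (toT : Obj → Tor b G)
    (hcl : Function.Surjective cl) (hrel : ∀ o o', cl o = cl o' ↔ Nonempty (EIso (toT o) (toT o')))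
    (hsurj : ∀ A : Tor b G, ∃ o, Nonempty (EIso (toT o) A)) (r : Q → Obj) (hr : ∀ c, cl (r c) = c) :
    Finite Q ∧ ∑ᶠ c : Q, ((Nat.card (EIso (toT (r c)) (toT (r c))) : ℚ))⁻¹ = 1 := by
  classical
  let Kb := AlgebraicClosure L
  haveI := finite_gam b Kb G
  letI : Fintype (GamG b Kb G) := Fintype.ofFinite _
  let Γ := GamG b Kb G
  let X := TwSet Γ
  haveI : Finite X := inferInstanceAs (Finite Γ)
  let σ := σG b Kb G
  letI actΓ : MulAction Γ X :=
    { smul := fun a g => (show Γ from σ a * (show Γ from g) * a⁻¹ : Γ)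
      one_smul := fun (g : Γ) => by show σ 1 * g * 1⁻¹ = g; rw [map_one, inv_one, _root_.mul_one, _root_.one_mul]
      mul_smul := fun a a' (g : Γ) => by
        show σ (a * a') * g * (a * a')⁻¹ = σ a * (σ a' * g * a'⁻¹) * a⁻¹
        rw [map_mul, _root_.mul_inv_rev]; group }
  let pt : ∀ o, PPts b Kb (toT o).π := fun o => (nonempty_ppts Kb (toT o)).some
  let g : Obj → X := fun o => gel Kb (toT o) (pt o)
  have hrel' : ∀ o o', cl o = cl o' ↔ (MulAction.orbitRel Γ X).r (g o) (g o') := fun o o' => by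
    rw [hrel]
    exact (nonempty_eisoEquiv Kb (pt o) (pt o')).some.nonempty_congr.trans
      ⟨fun ⟨a⟩ => ⟨a.1, a.2⟩, fun ⟨a, ha⟩ => ⟨⟨a, ha⟩⟩⟩
  let O := MulAction.orbitRel.Quotient Γ X
  let Φ : Q → O := fun c => Quotient.mk _ (g (r c))
  have hΦ : Function.Bijective Φ := by
    refine ⟨fun c c' h => ?_, fun o => Quotient.inductionOn o fun t₀ => ?_⟩
    · rw [← hr c, ← hr c', hrel']
      exact Quotient.exact h
    · obtain ⟨A, x, hx⟩ := exists_tor b Kb G t₀
      obtain ⟨o, ⟨i⟩⟩ := hsurj A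
      refine ⟨cl o, Quotient.sound ?_⟩
      have h1 : (MulAction.orbitRel Γ X).r (g (r (cl o))) (g o) := (hrel' _ _).mp (hr _)
      have h2 : (MulAction.orbitRel Γ X).r (g o) t₀ := by
        obtain ⟨a⟩ := (nonempty_eisoEquiv Kb (pt o) x).map fun k => k i
        exact ⟨a.1, by rw [← hx]; exact a.2⟩
      exact (MulAction.orbitRel Γ X).iseqv.trans h1 h2
  let Θ := Equiv.ofBijective Φ hΦ
  haveI : Finite Q := Finite.of_equiv _ Θ.symm
  refine ⟨‹_›, ?_⟩
  have hcard : ∀ c : Q, ((Nat.card (EIso (toT (r c)) (toT (r c))) : ℚ))⁻¹ =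
      (Nat.card (MulAction.orbitRel.Quotient.orbit (Φ c)) : ℚ) / Nat.card Γ := by
    intro c
    have hst : Nat.card (EIso (toT (r c)) (toT (r c))) = Nat.card (MulAction.stabilizer Γ (g (r c))) :=
      Nat.card_congr ((nonempty_eisoEquiv Kb (pt (r c)) (pt (r c))).some.trans
        (Equiv.subtypeEquivRight fun _ => Iff.rfl))
    have horb : Nat.card (MulAction.orbitRel.Quotient.orbit (Φ c)) = Nat.card (MulAction.orbit Γ (g (r c))) := by
      rw [show Φ c = Quotient.mk _ (g (r c)) from rfl, MulAction.orbitRel.Quotient.orbit_mk]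
    have hmul := Nat.card_congr (MulAction.orbitProdStabilizerEquivGroup Γ (g (r c)))
    rw [Nat.card_prod] at hmul
    have hΓ : (Nat.card Γ : ℚ) ≠ 0 := Nat.cast_ne_zero.mpr (Nat.card_pos.ne')
    have hs0 : (Nat.card (MulAction.stabilizer Γ (g (r c))) : ℚ) ≠ 0 := Nat.cast_ne_zero.mpr (Nat.card_pos.ne')
    rw [hst, horb, eq_div_iff hΓ, ← hmul, Nat.cast_mul]
    field_simp
  haveI : Fintype O := Fintype.ofFinite _
  haveI : Fintype Q := Fintype.ofFinite _
  rw [finsum_eq_sum_of_fintype, Finset.sum_congr rfl (fun c _ => hcard c), ← Finset.sum_div,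
    show (∑ c, (Nat.card (MulAction.orbitRel.Quotient.orbit (Φ c)) : ℚ)) =
      ∑ o, (Nat.card (MulAction.orbitRel.Quotient.orbit o) : ℚ) from
      Θ.sum_comp (fun o => (Nat.card (MulAction.orbitRel.Quotient.orbit o) : ℚ))]
  rw [div_eq_one_iff_eq (Nat.cast_ne_zero.mpr (Nat.card_pos.ne')), ← Nat.cast_sum]
  congr 1
  rw [← Nat.card_sigma]
  exact Nat.card_congr (MulAction.selfEquivSigmaOrbits' Γ X).symm

end Groth.Agent.FinFieldEt
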