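import Mathlib
import Groth.Agent.FinFieldEt.Alg

/-!
# Finite étale schemes over a finite field
-/

set_option autoImplicit false
set_option backward.isDefEq.respectTransparency false
set_option linter.style.haveILetI false
set_option linter.unusedSectionVars false

universe u

open CategoryTheory AlgebraicGeometry

noncomputable section

namespace Groth.Agent.FinFieldEt

variable (L : Type u) [Field L] [Fintype L] (Kb : Type u) [Field Kb] [IsAlgClosed Kb] [Algebra L Kb]

/-- the structure map of the geometric point -/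
abbrev geo : Spec (CommRingCat.of Kb) ⟶ Spec (CommRingCat.of L) :=
  Spec.map (CommRingCat.ofHom (algebraMap L Kb))

/-- the Frobenius of the geometric point -/
abbrev frobS : Spec (CommRingCat.of Kb) ⟶ Spec (CommRingCat.of Kb) :=
  Spec.map (CommRingCat.ofHom (frob L Kb).toRingHom)

theorem frobS_geo : frobS L Kb ≫ geo L Kb = geo L Kb := by
  rw [← Spec.map_comp, ← CommRingCat.ofHom_comp]
  congr 2
  exact (frob L Kb).comp_algebraMap

variable {L Kb}

/-- geometric points -/
abbrev GPts {Z : Scheme.{u}} (z : Z ⟶ Spec (CommRingCat.of L)) (Kb : Type u) [Field Kb] [Algebra L Kb] : Type u :=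
  {x : Spec (CommRingCat.of Kb) ⟶ Z // x ≫ z = Spec.map (CommRingCat.ofHom (algebraMap L Kb))}

/-- Frobenius on geometric points -/
def frobPt {Z : Scheme.{u}} {z : Z ⟶ Spec (CommRingCat.of L)} (x : GPts z Kb) : GPts z Kb :=
  ⟨frobS L Kb ≫ x.1, by rw [Category.assoc, x.2]; exact frobS_geo L Kb⟩

theorem frobPt_val {Z : Scheme.{u}} {z : Z ⟶ Spec (CommRingCat.of L)} (x : GPts z Kb) :
    (frobPt x).1 = frobS L Kb ≫ x.1 := rfl

/-- points of an affine scheme -/
def ptsEquiv (A : Type u) [CommRing A] [Algebra L A] {Z : Scheme.{u}} (e : Z ≅ Spec (CommRingCat.of A))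
    (z : Z ⟶ Spec (CommRingCat.of L)) (hz : e.inv ≫ z = Spec.map (CommRingCat.ofHom (algebraMap L A))) :
    (A →ₐ[L] Kb) ≃ GPts z Kb where
  toFun χ := ⟨Spec.map (CommRingCat.ofHom χ.toRingHom) ≫ e.inv, by
    rw [Category.assoc, hz, ← Spec.map_comp, ← CommRingCat.ofHom_comp]
    congr 2
    exact χ.comp_algebraMap⟩
  invFun x :=
    { (Spec.preimage (x.1 ≫ e.hom)).hom with
      commutes' := fun r => by
        have h : Spec.map (CommRingCat.ofHom (algebraMap L A) ≫ Spec.preimage (x.1 ≫ e.hom)) =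
            Spec.map (CommRingCat.ofHom (algebraMap L Kb)) := by
          rw [Spec.map_comp, Spec.map_preimage, Category.assoc, ← hz, e.hom_inv_id_assoc, x.2]
        exact congrArg (fun φ => φ.hom r) (Spec.map_injective h) }
  left_inv χ := AlgHom.ext fun a => by
    show (Spec.preimage ((Spec.map (CommRingCat.ofHom χ.toRingHom) ≫ e.inv) ≫ e.hom)).hom a = χ a
    rw [Category.assoc, e.inv_hom_id, Category.comp_id, Spec.preimage_map]
    rfl
  right_inv x := Subtype.ext (by
    show Spec.map (CommRingCat.ofHom (Spec.preimage (x.1 ≫ e.hom)).hom) ≫ e.inv = x.1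
    rw [CommRingCat.ofHom_hom, Spec.map_preimage, Category.assoc, e.hom_inv_id, Category.comp_id])

theorem ptsEquiv_frob (A : Type u) [CommRing A] [Algebra L A] {Z : Scheme.{u}} (e : Z ≅ Spec (CommRingCat.of A))
    (z : Z ⟶ Spec (CommRingCat.of L)) (hz : e.inv ≫ z = Spec.map (CommRingCat.ofHom (algebraMap L A)))
    (χ : A →ₐ[L] Kb) : ptsEquiv A e z hz ((frob L Kb).comp χ) = frobPt (ptsEquiv A e z hz χ) := by
  refine Subtype.ext ?_
  show Spec.map (CommRingCat.ofHom ((frob L Kb).comp χ).toRingHom) ≫ e.inv =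
    frobS L Kb ≫ Spec.map (CommRingCat.ofHom χ.toRingHom) ≫ e.inv
  rw [← Spec.map_comp_assoc, ← CommRingCat.ofHom_comp]
  rfl

theorem exists_model {Z : Scheme.{u}} (z : Z ⟶ Spec (CommRingCat.of L)) [IsFinite z] [Etale z] :
    ∃ (A : Type u) (_ : CommRing A) (_ : Algebra L A) (e : Z ≅ Spec (CommRingCat.of A)),
      Module.Finite L A ∧ Algebra.Etale L A ∧ e.inv ≫ z = Spec.map (CommRingCat.ofHom (algebraMap L A)) := by
  haveI : IsAffine Z := isAffine_of_isAffineHom z
  let ψ : CommRingCat.of L ⟶ Γ(Z, ⊤) := (Scheme.ΓSpecIso _).inv ≫ z.appTop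
  letI : Algebra L Γ(Z, ⊤) := ψ.hom.toAlgebra
  have hz : Z.isoSpec.inv ≫ z = Spec.map (CommRingCat.ofHom (algebraMap L Γ(Z, ⊤))) := by
    show _ = Spec.map ψ
    rw [Spec.map_comp, ← Scheme.isoSpec_inv_naturality]
    congr 1
    simp [Scheme.isoSpec_Spec_inv]
  have hfin : IsFinite (Spec.map (CommRingCat.ofHom (algebraMap L Γ(Z, ⊤)))) := by rw [← hz]; infer_instance
  have het : Etale (Spec.map (CommRingCat.ofHom (algebraMap L Γ(Z, ⊤)))) := by rw [← hz]; infer_instance
  refine ⟨Γ(Z, ⊤), inferInstance, inferInstance, Z.isoSpec, ?_, ?_, hz⟩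
  · rw [IsFinite.SpecMap_iff] at hfin
    exact RingHom.finite_algebraMap.mp hfin
  · rw [HasRingHomProperty.Spec_iff (P := @Etale)] at het
    exact RingHom.etale_algebraMap.mp het

/-- equivariant maps of points come from unique morphisms -/
theorem existsUnique_hom {Z Z' : Scheme.{u}} (z : Z ⟶ Spec (CommRingCat.of L))
    (z' : Z' ⟶ Spec (CommRingCat.of L)) [IsFinite z] [Etale z] [IsFinite z'] [Etale z']
    (v : GPts z Kb → GPts z' Kb) (hv : ∀ x, v (frobPt x) = frobPt (v x)) :
    ∃! f : Z ⟶ Z', f ≫ z' = z ∧ ∀ x : GPts z Kb, x.1 ≫ f = (v x).1 := by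
  obtain ⟨B, _, _, e, _, _, he⟩ := exists_model z
  obtain ⟨A, _, _, e', _, _, he'⟩ := exists_model z'
  let p := ptsEquiv (Kb := Kb) B e z he
  let p' := ptsEquiv (Kb := Kb) A e' z' he'
  obtain ⟨φ, hφ, huniq⟩ := existsUnique_algHom L Kb A B (fun χ => p'.symm (v (p χ))) (fun χ => by
    apply p'.injective
    rw [Equiv.apply_symm_apply, ptsEquiv_frob, hv, ptsEquiv_frob, Equiv.apply_symm_apply])
  refine ⟨e.hom ≫ Spec.map (CommRingCat.ofHom φ.toRingHom) ≫ e'.inv, ⟨?_, fun x => ?_⟩, ?_⟩
  · rw [Category.assoc, Category.assoc, he', ← Spec.map_comp, ← CommRingCat.ofHom_comp, show φ.toRingHom.comp (algebraMap L A) = algebraMap L B from φ.comp_algebraMap,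
      ← he, e.hom_inv_id_assoc]
  · obtain ⟨χ, rfl⟩ := p.surjective x
    have := congrArg (fun c => (p' c).1) (hφ χ)
    rw [Equiv.apply_symm_apply] at this
    rw [← this]
    show (Spec.map (CommRingCat.ofHom χ.toRingHom) ≫ e.inv) ≫ e.hom ≫ _ = _
    rw [Category.assoc, e.inv_hom_id_assoc, ← Spec.map_comp_assoc, ← CommRingCat.ofHom_comp]
    rfl
  · rintro f ⟨hf, hfx⟩
    obtain ⟨φ', hφ'⟩ : ∃ φ' : A →ₐ[L] B,
        Spec.map (CommRingCat.ofHom φ'.toRingHom) = e.inv ≫ f ≫ e'.hom := by
      refine ⟨{ (Spec.preimage (e.inv ≫ f ≫ e'.hom)).hom with commutes' := fun r => ?_ }, ?_⟩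
      · have h : Spec.map (CommRingCat.ofHom (algebraMap L A) ≫ Spec.preimage (e.inv ≫ f ≫ e'.hom)) =
            Spec.map (CommRingCat.ofHom (algebraMap L B)) := by
          rw [Spec.map_comp, Spec.map_preimage, ← he', Category.assoc, Category.assoc, e'.hom_inv_id_assoc, hf, he]
        exact congrArg (fun g => g.hom r) (Spec.map_injective h)
      · exact Spec.map_preimage _
    have : φ' = φ := huniq φ' fun χ => by
      apply p'.injective
      rw [Equiv.apply_symm_apply]
      refine Subtype.ext ?_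
      rw [← hfx (p χ)]
      show Spec.map (CommRingCat.ofHom (χ.comp φ').toRingHom) ≫ e'.inv =
        (Spec.map (CommRingCat.ofHom χ.toRingHom) ≫ e.inv) ≫ f
      rw [show CommRingCat.ofHom (χ.comp φ').toRingHom = CommRingCat.ofHom φ'.toRingHom ≫ CommRingCat.ofHom χ.toRingHom
        from rfl, Spec.map_comp, hφ']
      simp
    rw [← this, hφ']
    simp

/-- geometric points are finite -/
theorem finite_gpts {Z : Scheme.{u}} (z : Z ⟶ Spec (CommRingCat.of L)) [IsFinite z] [Etale z] :
    Finite (GPts z Kb) := by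
  obtain ⟨A, _, _, e, _, _, he⟩ := exists_model z
  haveI := finite_points L Kb A
  exact Finite.of_equiv _ (ptsEquiv A e z he)

/-- Frobenius is injective on geometric points -/
theorem frobPt_injective {Z : Scheme.{u}} (z : Z ⟶ Spec (CommRingCat.of L)) [IsFinite z] [Etale z] :
    Function.Injective (frobPt (z := z) (Kb := Kb)) := by
  obtain ⟨A, _, _, e, _, _, he⟩ := exists_model z
  intro x y h
  obtain ⟨χ, rfl⟩ := (ptsEquiv A e z he).surjective x
  obtain ⟨χ', rfl⟩ := (ptsEquiv A e z he).surjective y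
  rw [← ptsEquiv_frob, ← ptsEquiv_frob] at h
  exact congrArg _ ((frobPerm L Kb A).injective ((ptsEquiv A e z he).injective h))

/-- nonempty finite étale schemes have geometric points -/
theorem nonempty_gpts {Z : Scheme.{u}} (z : Z ⟶ Spec (CommRingCat.of L)) [IsFinite z] [Etale z]
    [hne : Nonempty Z] : Nonempty (GPts z Kb) := by
  obtain ⟨A, _, _, e, _, _, he⟩ := exists_model z
  haveI : Nontrivial A := by
    by_contra hA
    rw [not_nontrivial_iff_subsingleton] at hA
    haveI : IsEmpty (PrimeSpectrum A) := inferInstance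
    exact IsEmpty.false (α := PrimeSpectrum A) (e.hom hne.some)
  haveI := finite_points L Kb A
  have h := finrank_eq_natCard L Kb A
  have hpos : 0 < Nat.card (A →ₐ[L] Kb) := h ▸ Module.finrank_pos
  obtain ⟨χ⟩ := (Nat.card_pos_iff.mp hpos).1
  exact ⟨ptsEquiv A e z he χ⟩

/-- every finite set with a permutation is realized -/
theorem exists_scheme (S : Type u) [Finite S] (τ : Equiv.Perm S) :
    ∃ (Z : Scheme.{u}) (z : Z ⟶ Spec (CommRingCat.of L)), IsFinite z ∧ Etale z ∧
      ∃ e : S ≃ GPts z Kb, ∀ s, e (τ s) = frobPt (e s) := by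
  obtain ⟨hfin, het⟩ := finite_etale_fixAlg L Kb τ
  haveI := hfin
  haveI := het
  let A := fixAlg L Kb τ
  let z : Spec (CommRingCat.of A) ⟶ Spec (CommRingCat.of L) := Spec.map (CommRingCat.ofHom (algebraMap L A))
  refine ⟨_, z, ?_, ?_, (Equiv.ofBijective _ ⟨ev_injective L Kb τ, ev_surjective L Kb τ⟩).trans
    (ptsEquiv A (Iso.refl _) z (Category.id_comp _)), fun s => ?_⟩
  · rw [IsFinite.SpecMap_iff]; exact RingHom.finite_algebraMap.mpr hfin
  · rw [HasRingHomProperty.Spec_iff (P := @Etale)]; exact RingHom.etale_algebraMap.mpr het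
  · show ptsEquiv A (Iso.refl _) z (Category.id_comp _) (ev L Kb τ (τ s)) =
      frobPt (ptsEquiv A (Iso.refl _) z (Category.id_comp _) (ev L Kb τ s))
    rw [← ptsEquiv_frob]
    congr 1
    ext f
    exact f.2 s

end Groth.Agent.FinFieldEt
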