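import Groth.Agent.FinFieldEt.Conv

/-!
# Torsors over the base field itself
-/

set_option autoImplicit false
set_option backward.isDefEq.respectTransparency false
set_option backward.isDefEq.respectTransparency.types false
set_option linter.style.haveILetI false
set_option linter.unusedSectionVars false

universe u

open CategoryTheory CategoryTheory.Limits MonoidalCategory CartesianMonoidalCategory MonObj GrpObj AlgebraicGeometry
open Groth.Agent

noncomputable section

namespace Groth.Agent.FinFieldEt.Self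

variable {S : Scheme.{u}} {G : Over S} [GrpObj G]

/-- the map to the terminal object -/
def toBase (X : Over S) : X ⟶ Over.mk (𝟙 S) := Over.homMk X.hom (Category.comp_id _)

theorem hom_eq {W : Over S} (f g : W ⟶ Over.mk (𝟙 S)) : f = g := Over.mkIdTerminal.hom_ext f g

theorem prod_isPullback (X : Over S) : IsPullback (fst X X) (snd X X) (toBase X) (toBase X) := by
  have h := IsPullback.of_is_product (tensorProductIsBinaryProduct X X) (Over.mkIdTerminal (X := S))
  convert h using 1 <;> first | exact hom_eq _ _ | rfl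

theorem cart_of_pseudo {X : Over S} (a : AlgGrp.Action G X) (h : NonAbH1.IsPseudoTorsorSch a) :
    IsPullback a.act (snd G X) (toBase X) (toBase X) := by
  haveI : IsIso (lift a.act (snd G X)) := h
  refine IsPullback.of_iso (prod_isPullback X) (asIso (lift a.act (snd G X))).symm (Iso.refl X) (Iso.refl X)
    (Iso.refl (Over.mk (𝟙 S))) ?_ ?_ (hom_eq _ _) (hom_eq _ _)
  · rw [Iso.refl_hom, Category.comp_id, Iso.symm_hom, Iso.eq_inv_comp, asIso_hom, lift_fst]
  · rw [Iso.refl_hom, Category.comp_id, Iso.symm_hom, Iso.eq_inv_comp, asIso_hom, lift_snd]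

theorem pseudo_of_cart {X : Over S} (a : AlgGrp.Action G X) (π π' : X ⟶ Over.mk (𝟙 S))
    (h : IsPullback a.act (snd G X) π π') : NonAbH1.IsPseudoTorsorSch a := by
  rw [hom_eq π (toBase X), hom_eq π' (toBase X)] at h
  have he : (h.isoIsPullback _ _ (prod_isPullback X)).hom = lift a.act (snd G X) :=
    CartesianMonoidalCategory.hom_ext _ _ (by rw [lift_fst]; exact h.isoIsPullback_hom_fst _ _ _)
      (by rw [lift_snd]; exact h.isoIsPullback_hom_snd _ _ _)
  show IsIso (lift a.act (snd G X))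
  rw [← he]; infer_instance

theorem equivalence (K : Precoverage Scheme.{u}) : Equivalence fun P Q : NonAbH1.TorsorSch G K =>
    Nonempty (NonAbH1.EquivIso P.act Q.act) :=
  ⟨fun P => ⟨⟨Iso.refl _, by simp⟩⟩,
    fun {P Q} ⟨e⟩ => ⟨⟨e.iso.symm, by
      show Q.act.act ≫ e.iso.inv = (G ◁ e.iso.inv) ≫ P.act.act
      rw [Iso.comp_inv_eq, Category.assoc, e.comm, ← MonoidalCategory.whiskerLeft_comp_assoc,
        Iso.inv_hom_id, MonoidalCategory.whiskerLeft_id, Category.id_comp]⟩⟩,
    fun {P Q R} ⟨e⟩ ⟨f⟩ => ⟨⟨e.iso ≪≫ f.iso, by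
      rw [Iso.trans_hom, reassoc_of% e.comm, f.comm, MonoidalCategory.whiskerLeft_comp, Category.assoc]⟩⟩⟩

variable {L : Type u} [Field L] [Fintype L] {G : Over (Spec (CommRingCat.of L))} [GrpObj G] [IsFinite G.hom]
  [Etale G.hom]

/-- the torsor of an fppf torsor scheme -/
def toTor (o : NonAbH1.TorsorSch G Scheme.fppfPrecoverage) : Tor (𝟙 (Spec (CommRingCat.of L))) G :=
  torOfLoc Scheme.fppfPrecoverage_le_fpqcPrecoverage o.act (toBase o.X) (cart_of_pseudo o.act o.isTorsor.1)
    o.isTorsor.2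

/-- the two notions of isomorphism -/
def equivEIso (o o' : NonAbH1.TorsorSch G Scheme.fppfPrecoverage) :
    NonAbH1.EquivIso o.act o'.act ≃ EIso (toTor o) (toTor o') where
  toFun e := ⟨e.iso, e.comm, hom_eq _ _⟩
  invFun e := ⟨e.1, e.2.1⟩
  left_inv _ := rfl
  right_inv _ := rfl

theorem toTor_surjective (A : Tor (𝟙 (Spec (CommRingCat.of L))) G) :
    ∃ o, Nonempty (EIso (toTor o) A) := by
  have hA : A.π.left = A.P.hom := (Category.comp_id _).symm.trans (Over.w A.π)
  obtain ⟨R, hR, h⟩ := isLocallyTrivialFor_singleton A (singleton_mem_fppf A)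
  have hloc : NonAbH1.IsLocallyTrivialFor Scheme.fppfPrecoverage A.P := ⟨R, hR, fun S' f hf =>
    ⟨(h f hf).choose, (congrArg ((h f hf).choose ≫ ·) hA.symm).trans (h f hf).choose_spec⟩⟩
  exact ⟨⟨A.P, A.act, pseudo_of_cart A.act A.π A.π A.cart, hloc⟩, ⟨⟨Iso.refl A.P, by
    show A.act.act ≫ 𝟙 _ = (G ◁ 𝟙 _) ≫ A.act.act
    simp, hom_eq _ _⟩⟩⟩

/-- the mass formula -/
theorem mass_H1Sch (G : Over (Spec (CommRingCat.of L))) [GrpObj G] [IsFinite G.hom] [Etale G.hom] :
    Finite (NonAbH1.H1Sch G Scheme.fppfPrecoverage) ∧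
      ∑ᶠ ξ : NonAbH1.H1Sch G Scheme.fppfPrecoverage,
        ((Nat.card (NonAbH1.EquivIso (Quot.out ξ).act (Quot.out ξ).act) : ℚ))⁻¹ = 1 := by
  obtain ⟨h1, h2⟩ := mass (𝟙 (Spec (CommRingCat.of L))) G
    (Quot.mk _ : NonAbH1.TorsorSch G Scheme.fppfPrecoverage → NonAbH1.H1Sch G Scheme.fppfPrecoverage) toTor
    Quot.mk_surjective
    (fun o o' => (Quot.eq.trans (equivalence _).eqvGen_iff).trans (equivEIso o o').nonempty_congr)
    toTor_surjective Quot.out Quot.out_eq
  exact ⟨h1, (finsum_congr fun ξ => by rw [Nat.card_congr (equivEIso (Quot.out ξ) (Quot.out ξ))]).trans h2⟩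

end Groth.Agent.FinFieldEt.Self
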