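import Groth.Agent.FinFieldEt.Sch
import Groth.Agent.Torsor.Points
import Groth.Prelude.Def_AlgSt5

/-!
# Torsors under a finite étale group over a finite field, on geometric points
-/

set_option autoImplicit false
set_option backward.isDefEq.respectTransparency false
set_option backward.isDefEq.respectTransparency.types false
set_option linter.style.haveILetI false
set_option linter.unusedSectionVars false

universe u

open CategoryTheory CategoryTheory.Limits MonoidalCategory CartesianMonoidalCategory MonObj GrpObj AlgebraicGeometry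
open Groth.Agent

noncomputable section

namespace Groth.Agent.FinFieldEt

variable {S₀ : Scheme.{u}} {L : Type u} [Field L] [Fintype L] (b : Spec (CommRingCat.of L) ⟶ S₀)
variable (Kb : Type u) [Field Kb] [IsAlgClosed Kb] [Algebra L Kb]

/-- the base -/
abbrev bT : Over S₀ := Over.mk b

/-- the geometric point -/
abbrev gp : Over S₀ := Over.mk (geo L Kb ≫ b)

/-- its map to the base -/
abbrev gι : gp b Kb ⟶ bT b := Over.homMk (geo L Kb)

/-- Frobenius -/
def gφ : gp b Kb ⟶ gp b Kb := Over.homMk (frobS L Kb) (by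
  show frobS L Kb ≫ geo L Kb ≫ b = geo L Kb ≫ b
  rw [← Category.assoc, frobS_geo])

theorem gφ_gι : gφ b Kb ≫ gι b Kb = gι b Kb := Over.OverMorphism.ext (frobS_geo L Kb)

/-- geometric points over the base -/
abbrev PPts {W : Over S₀} (q : W ⟶ bT b) : Type u := {x : gp b Kb ⟶ W // x ≫ q = gι b Kb}

/-- comparison with scheme points -/
def pptsEquiv {W : Over S₀} (q : W ⟶ bT b) : PPts b Kb q ≃ GPts (L := L) q.left Kb where
  toFun x := ⟨x.1.left, congrArg CommaMorphism.left x.2⟩
  invFun y := ⟨Over.homMk y.1 (by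
    show y.1 ≫ W.hom = geo L Kb ≫ b
    rw [← Over.w q, ← Category.assoc, y.2]; rfl), Over.OverMorphism.ext y.2⟩
  left_inv x := Subtype.ext (Over.OverMorphism.ext rfl)
  right_inv y := rfl

/-- Frobenius on points -/
def pfrob {W : Over S₀} {q : W ⟶ bT b} (x : PPts b Kb q) : PPts b Kb q :=
  ⟨gφ b Kb ≫ x.1, by rw [Category.assoc, x.2, gφ_gι]⟩

theorem pptsEquiv_pfrob {W : Over S₀} {q : W ⟶ bT b} (x : PPts b Kb q) :
    pptsEquiv b Kb q (pfrob b Kb x) = frobPt (pptsEquiv b Kb q x) := rfl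

/-- morphisms over the base are determined by geometric points -/
theorem pts_ext {W W' : Over S₀} (q : W ⟶ bT b) (q' : W' ⟶ bT b) [IsFinite q.left] [Etale q.left]
    [IsFinite q'.left] [Etale q'.left] (f f' : W ⟶ W') (hf : f ≫ q' = q) (hf' : f' ≫ q' = q)
    (h : ∀ x : PPts b Kb q, x.1 ≫ f = x.1 ≫ f') : f = f' := by
  let v : GPts (L := L) q.left Kb → GPts (L := L) q'.left Kb := fun y => ⟨y.1 ≫ f.left, by
    rw [Category.assoc, show f.left ≫ q'.left = q.left from congrArg CommaMorphism.left hf, y.2]⟩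
  obtain ⟨F, -, hu⟩ := existsUnique_hom q.left q'.left v (fun y => Subtype.ext (Category.assoc _ _ _))
  refine Over.OverMorphism.ext ((hu f.left ⟨congrArg CommaMorphism.left hf, fun y => rfl⟩).trans
    (hu f'.left ⟨congrArg CommaMorphism.left hf', fun y => ?_⟩).symm)
  exact (congrArg CommaMorphism.left (h ((pptsEquiv b Kb q).symm y))).symm

/-- morphisms from equivariant maps of points -/
theorem exists_hom {W W' : Over S₀} (q : W ⟶ bT b) (q' : W' ⟶ bT b) [IsFinite q.left] [Etale q.left]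
    [IsFinite q'.left] [Etale q'.left] (v : PPts b Kb q → PPts b Kb q')
    (hv : ∀ x, v (pfrob b Kb x) = pfrob b Kb (v x)) :
    ∃ f : W ⟶ W', f ≫ q' = q ∧ ∀ x, x.1 ≫ f = (v x).1 := by
  obtain ⟨F, ⟨hF, hFx⟩, -⟩ := existsUnique_hom q.left q'.left
    (fun y => pptsEquiv b Kb q' (v ((pptsEquiv b Kb q).symm y))) (fun y => by
      rw [← pptsEquiv_pfrob, ← hv]
      congr 2)
  refine ⟨Over.homMk F (by rw [← Over.w q', ← Category.assoc, hF]; exact Over.w q),
    Over.OverMorphism.ext hF, fun x => Over.OverMorphism.ext ?_⟩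
  exact (hFx (pptsEquiv b Kb q x)).trans (by rw [Equiv.symm_apply_apply]; rfl)

variable (G : Over S₀) [GrpObj G] [IsFinite G.hom] [Etale G.hom]

/-- torsors over the base -/
structure Tor where
  /-- the total space -/
  P : Over S₀
  /-- the action -/
  act : AlgGrp.Action G P
  /-- the structure map -/
  π : P ⟶ bT b
  cart : IsPullback act.act (snd G P) π π
  fin : IsFinite π.left
  et : Etale π.left
  surj : Surjective π.left

attribute [instance] Tor.fin Tor.et Tor.surj

variable {b G}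

/-- isomorphisms of torsors -/
abbrev EIso (A B : Tor b G) : Type u :=
  {e : A.P ≅ B.P // A.act.act ≫ e.hom = (G ◁ e.hom) ≫ B.act.act ∧ e.hom ≫ B.π = A.π}

instance isFinite_snd_π (A : Tor b G) : IsFinite (snd G A.P ≫ A.π).left := by
  rw [Over.comp_left, Over.snd_left]; infer_instance

instance etale_snd_π (A : Tor b G) : Etale (snd G A.P ≫ A.π).left := by
  rw [Over.comp_left, Over.snd_left]; infer_instance

variable (b G)

/-- the group of geometric points -/
abbrev GamG : Type u := gp b Kb ⟶ G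

/-- Frobenius on the group -/
def σG : GamG b Kb G →* GamG b Kb G where
  toFun g := gφ b Kb ≫ g
  map_one' := comp_one _
  map_mul' _ _ := comp_mul _ _ _

/-- the group as points -/
def gamEquiv : GamG b Kb G ≃ PPts b Kb (snd G (bT b)) where
  toFun g := ⟨lift g (gι b Kb), lift_snd _ _⟩
  invFun x := x.1 ≫ fst G (bT b)
  left_inv g := lift_fst _ _
  right_inv x := Subtype.ext (CartesianMonoidalCategory.hom_ext _ _ (lift_fst _ _) (by rw [lift_snd]; exact x.2.symm))

instance isFinite_snd_base : IsFinite (snd G (bT b)).left := by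
  rw [Over.snd_left]; infer_instance

instance etale_snd_base : Etale (snd G (bT b)).left := by
  rw [Over.snd_left]; infer_instance

theorem finite_gam : Finite (GamG b Kb G) :=
  haveI := finite_gpts (L := L) (Kb := Kb) (snd G (bT b)).left
  Finite.of_equiv _ ((pptsEquiv b Kb (snd G (bT b))).symm.trans (gamEquiv b Kb G).symm)

theorem σG_injective : Function.Injective (σG b Kb G) := fun g h e => by
  apply (gamEquiv b Kb G).injective
  apply (pptsEquiv b Kb _).injective
  apply frobPt_injective (snd G (bT b)).left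
  rw [← pptsEquiv_pfrob, ← pptsEquiv_pfrob]
  congr 1
  refine Subtype.ext ?_
  show gφ b Kb ≫ lift g (gι b Kb) = gφ b Kb ≫ lift h (gι b Kb)
  rw [comp_lift, comp_lift]
  exact congrArg (fun z => lift z _) e

variable {b G}

/-- translates of a point -/
def trp (A : Tor b G) (g : GamG b Kb G) (x : PPts b Kb A.π) : PPts b Kb A.π :=
  ⟨Torsor.smul A.act g x.1, by
    rw [Torsor.smul, Category.assoc, A.cart.w, lift_snd_assoc, x.2]⟩

theorem trp_mul (A : Tor b G) (g h : GamG b Kb G) (x : PPts b Kb A.π) :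
    trp Kb A (g * h) x = trp Kb A g (trp Kb A h x) := Subtype.ext (Torsor.mul_smul A.act g h x.1)

theorem trp_one (A : Tor b G) (x : PPts b Kb A.π) : trp Kb A 1 x = x := Subtype.ext (Torsor.one_smul A.act x.1)

theorem pfrob_trp (A : Tor b G) (g : GamG b Kb G) (x : PPts b Kb A.π) :
    pfrob b Kb (trp Kb A g x) = trp Kb A (σG b Kb G g) (pfrob b Kb x) :=
  Subtype.ext (Torsor.comp_smul A.act _ _ _)

theorem trp_bijective (A : Tor b G) (x : PPts b Kb A.π) : Function.Bijective (fun g => trp Kb A g x) := by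
  refine ⟨fun g h e => ?_, fun y => ?_⟩
  · have : lift g x.1 = lift h x.1 := A.cart.hom_ext (congrArg Subtype.val e) (by rw [lift_snd, lift_snd])
    simpa using congrArg (fun z => z ≫ fst G A.P) this
  · obtain ⟨z, h1, h2⟩ := A.cart.exists_lift y.1 x.1 (y.2.trans x.2.symm)
    refine ⟨z ≫ fst G A.P, Subtype.ext ?_⟩
    show lift (z ≫ fst G A.P) x.1 ≫ A.act.act = y.1
    rw [show lift (z ≫ fst G A.P) x.1 = z from
      CartesianMonoidalCategory.hom_ext _ _ (lift_fst _ _) (by rw [lift_snd, h2]), h1]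

theorem nonempty_ppts (A : Tor b G) : Nonempty (PPts b Kb A.π) := by
  haveI : Nonempty A.P.left := ⟨(A.π.left.surjective (IsLocalRing.closedPoint L)).choose⟩
  exact (nonempty_gpts (L := L) (Kb := Kb) A.π.left).map (pptsEquiv b Kb A.π).symm

/-- the defining element of a pointed torsor -/
def gel (A : Tor b G) (x : PPts b Kb A.π) : GamG b Kb G :=
  ((trp_bijective Kb A x).2 (pfrob b Kb x)).choose

theorem trp_gel (A : Tor b G) (x : PPts b Kb A.π) : trp Kb A (gel Kb A x) x = pfrob b Kb x :=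
  ((trp_bijective Kb A x).2 (pfrob b Kb x)).choose_spec

theorem pfrob_trp' (A : Tor b G) (g : GamG b Kb G) (x : PPts b Kb A.π) :
    pfrob b Kb (trp Kb A g x) = trp Kb A (σG b Kb G g * gel Kb A x) x := by
  rw [pfrob_trp, ← trp_gel, trp_mul]

/-- equivariant morphisms on translates -/
theorem trp_comp {A B : Tor b G} (f : A.P ⟶ B.P) (hf : A.act.act ≫ f = (G ◁ f) ≫ B.act.act)
    (g : GamG b Kb G) (x : PPts b Kb A.π) : (trp Kb A g x).1 ≫ f = Torsor.smul B.act g (x.1 ≫ f) := by
  show (lift g x.1 ≫ A.act.act) ≫ f = lift g (x.1 ≫ f) ≫ B.act.act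
  rw [Category.assoc, hf, lift_whiskerLeft_assoc]

theorem exists_emap {A B : Tor b G} (x : PPts b Kb A.π) (y : PPts b Kb B.π) (a : GamG b Kb G)
    (ha : gel Kb A x = σG b Kb G a * gel Kb B y * a⁻¹) :
    ∃ f : A.P ⟶ B.P, A.act.act ≫ f = (G ◁ f) ≫ B.act.act ∧ f ≫ B.π = A.π ∧ x.1 ≫ f = (trp Kb B a y).1 := by
  let e := Equiv.ofBijective _ (trp_bijective Kb A x)
  let v : PPts b Kb A.π → PPts b Kb B.π := fun x' => trp Kb B (e.symm x' * a) y
  have hv : ∀ g, v (trp Kb A g x) = trp Kb B (g * a) y := fun g => by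
    show trp Kb B (e.symm (e g) * a) y = _
    rw [e.symm_apply_apply]
  have hve : ∀ x', v (pfrob b Kb x') = pfrob b Kb (v x') := by
    intro x'
    obtain ⟨g, rfl⟩ := e.surjective x'
    show v (pfrob b Kb (trp Kb A g x)) = pfrob b Kb (v (trp Kb A g x))
    rw [pfrob_trp', hv, hv, pfrob_trp', map_mul, ha]
    congr 1
    group
  obtain ⟨f, hfπ, hf⟩ := exists_hom b Kb A.π B.π v hve
  refine ⟨f, ?_, hfπ, ?_⟩
  · refine pts_ext b Kb (snd G A.P ≫ A.π) B.π _ _ ?_ ?_ fun z => ?_
    · rw [Category.assoc, hfπ, A.cart.w]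
    · rw [Category.assoc, B.cart.w, whiskerLeft_snd_assoc, hfπ]
    · obtain ⟨g, x', hz⟩ : ∃ g x', z.1 = lift g x' := ⟨z.1 ≫ fst G A.P, z.1 ≫ snd G A.P,
        CartesianMonoidalCategory.hom_ext _ _ (by rw [lift_fst]) (by rw [lift_snd])⟩
      have hx' : x' ≫ A.π = gι b Kb := by
        rw [← lift_snd g x', ← hz, Category.assoc]; exact z.2
      rw [hz, lift_whiskerLeft_assoc]
      show (trp Kb A g ⟨x', hx'⟩).1 ≫ f = _
      rw [hf (trp Kb A g ⟨x', hx'⟩), hf ⟨x', hx'⟩]
      obtain ⟨h, hh⟩ := e.surjective ⟨x', hx'⟩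
      rw [← hh]
      show (v (trp Kb A g (trp Kb A h x))).1 = Torsor.smul B.act g (v (trp Kb A h x)).1
      rw [← trp_mul, hv, hv, _root_.mul_assoc, trp_mul]
      rfl
  · rw [hf x, ← trp_one Kb A x, hv, _root_.one_mul]

theorem emap_ext {A B : Tor b G} {f f' : A.P ⟶ B.P} (hf : A.act.act ≫ f = (G ◁ f) ≫ B.act.act)
    (hf' : A.act.act ≫ f' = (G ◁ f') ≫ B.act.act) (hπ : f ≫ B.π = A.π) (hπ' : f' ≫ B.π = A.π)
    (x : PPts b Kb A.π) (h : x.1 ≫ f = x.1 ≫ f') : f = f' := by
  refine pts_ext b Kb A.π B.π f f' hπ hπ' fun x' => ?_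
  obtain ⟨g, rfl⟩ := (trp_bijective Kb A x).2 x'
  rw [trp_comp Kb f hf, trp_comp Kb f' hf', h]

theorem nonempty_eisoEquiv {A B : Tor b G} (x : PPts b Kb A.π) (y : PPts b Kb B.π) :
    Nonempty (EIso A B ≃ {a : GamG b Kb G // σG b Kb G a * gel Kb B y * a⁻¹ = gel Kb A x}) := by
  have hel : ∀ e : EIso A B, ∃ a : GamG b Kb G, (trp Kb B a y).1 = x.1 ≫ e.1.hom ∧
      σG b Kb G a * gel Kb B y * a⁻¹ = gel Kb A x := by
    intro e
    have hmem : (x.1 ≫ e.1.hom) ≫ B.π = gι b Kb := by rw [Category.assoc, e.2.2, x.2]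
    obtain ⟨a, ha⟩ := (trp_bijective Kb B y).2 ⟨_, hmem⟩
    have ha' : (trp Kb B a y).1 = x.1 ≫ e.1.hom := congrArg Subtype.val ha
    refine ⟨a, ha', ?_⟩
    have h1 : (trp Kb B (gel Kb A x * a) y).1 = (trp Kb B (σG b Kb G a * gel Kb B y) y).1 := by
      rw [← pfrob_trp', trp_mul]
      show Torsor.smul B.act _ (trp Kb B a y).1 = gφ b Kb ≫ (trp Kb B a y).1
      rw [ha', ← trp_comp Kb e.1.hom e.2.1, trp_gel]
      exact Category.assoc _ _ _
    rw [← (trp_bijective Kb B y).1 (Subtype.ext h1), mul_inv_cancel_right]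
  refine ⟨Equiv.ofBijective (fun e => ⟨(hel e).choose, (hel e).choose_spec.2⟩) ⟨fun e e' h => ?_, fun a => ?_⟩⟩
  · have ha : (hel e).choose = (hel e').choose := congrArg Subtype.val h
    refine Subtype.ext (Iso.ext (emap_ext Kb e.2.1 e'.2.1 e.2.2 e'.2.2 x ?_))
    rw [← (hel e).choose_spec.1, ← (hel e').choose_spec.1, ha]
  · obtain ⟨f, hf, hfπ, hfx⟩ := exists_emap Kb x y a.1 a.2.symm
    have hinv : gel Kb B y = σG b Kb G a.1⁻¹ * gel Kb A x * a.1⁻¹⁻¹ := by
      obtain ⟨a, ha⟩ := a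
      show gel Kb B y = σG b Kb G a⁻¹ * gel Kb A x * a⁻¹⁻¹
      rw [← ha, map_inv]; group
    obtain ⟨g, hg, hgπ, hgy⟩ := exists_emap Kb y x a.1⁻¹ hinv
    have h1 : f ≫ g = 𝟙 _ := by
      refine emap_ext Kb (A := A) (B := A) ?_ (by simp) (by rw [Category.assoc, hgπ, hfπ]) (Category.id_comp _) x ?_
      · rw [reassoc_of% hf, hg, MonoidalCategory.whiskerLeft_comp, Category.assoc]
      · rw [← Category.assoc, hfx, trp_comp Kb g hg, hgy, Category.comp_id]
        show (trp Kb A a.1 (trp Kb A a.1⁻¹ x)).1 = x.1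
        rw [← trp_mul, mul_inv_cancel, trp_one]
    have h2 : g ≫ f = 𝟙 _ := by
      refine emap_ext Kb (A := B) (B := B) ?_ (by simp) (by rw [Category.assoc, hfπ, hgπ]) (Category.id_comp _) y ?_
      · rw [reassoc_of% hg, hf, MonoidalCategory.whiskerLeft_comp, Category.assoc]
      · rw [← Category.assoc, hgy, trp_comp Kb f hf, hfx, Category.comp_id]
        show (trp Kb B a.1⁻¹ (trp Kb B a.1 y)).1 = y.1
        rw [← trp_mul, inv_mul_cancel, trp_one]
    let e : EIso A B := ⟨⟨f, g, h1, h2⟩, hf, hfπ⟩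
    refine ⟨e, Subtype.ext ((trp_bijective Kb B y).1 (Subtype.ext ?_))⟩
    exact (hel e).choose_spec.1.trans hfx

end Groth.Agent.FinFieldEt
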